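import Groth.Agent.AbVar.K522.ComRank
import Mathlib.LinearAlgebra.FreeModule.PID
import Mathlib.LinearAlgebra.Dimension.Localization
import Mathlib.RingTheory.Adjoin.PowerBasis

/-!
# The centre of an order acting on a vector space, and the dimension of the algebra

`R` a ring, finite free over `ℤ`, `v : R → End_K(V)` a representation mapping `ℤ`-independent families to
`K`-independent ones, `π` a central element of `R` with `v π` semisimple whose commutant is the `K`-span of `v(R)`.

* `exists_nsmul_eq_aeval`: if `v f ∈ K[v π]` then a multiple of `f` is an integral polynomial in `π`.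
* `mem_adjoin_of_central`: `v f ∈ K[v π]` for `f` central.
* `center_eq`: the centre of `ℚ ⊗ R` is `ℚ[π]`.
* `isSemisimpleRing_adjoin`: `ℚ[π]` is semisimple.
* `exists_sq`: if `R` is a domain then `ℚ ⊗ R` has dimension `n²` over `ℚ[π]` and `n [ℚ[π] : ℚ] = dim V`.
-/

set_option autoImplicit false

namespace K425.CentAlg

open Polynomial

section descent

variable {R : Type*} [Ring R] {K S : Type*} [Field K] [Ring S] [Algebra K S] (v : R →+* S)

theorem map_aeval (p : ℤ[X]) (π : R) : v (aeval π p) = aeval (v π) (p.map (Int.castRingHom K)) := by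
  rw [Polynomial.aeval_def, Polynomial.hom_eval₂, Polynomial.aeval_def, Polynomial.eval₂_map]
  congr 1
  exact RingHom.ext_int _ _

/-- Descent from `K` to `ℚ`. -/
theorem exists_nsmul_eq_aeval [Module.Finite ℤ R] [IsAddTorsionFree R]
    (hI : ∀ (n : ℕ) (e : Fin n → R), LinearIndependent ℤ e → LinearIndependent K (fun i => v (e i)))
    (π f : R) (hf : v f ∈ Algebra.adjoin K {v π}) : ∃ N : ℕ, 0 < N ∧ ∃ p : ℤ[X], N • f = aeval π p := by
  classical
  let M : Submodule ℤ R := LinearMap.range (aeval π : ℤ[X] →ₐ[ℤ] R).toLinearMap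
  have : IsNoetherian ℤ R := isNoetherian_of_isNoetherianRing_of_finite ℤ R
  have : Module.IsTorsionFree ℤ R := inferInstance
  have : Module.Free ℤ M := Module.free_of_finite_type_torsion_free'
  let b := Module.finBasis ℤ M
  by_contra hcon
  push Not at hcon
  -- the family `b, f` is independent
  have h1 : LinearIndependent ℤ (Fin.cons f (fun i => (b i : R)) : Fin (_ + 1) → R) := by
    refine LinearIndependent.finCons' f _ ?_ ?_
    · exact b.linearIndependent.map' M.subtype (Submodule.ker_subtype M)
    · intro c y hy h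
      by_contra hc
      have hy' : (y : R) ∈ M := by
        have : Submodule.span ℤ (Set.range fun i => (b i : R)) ≤ M := by
          rw [Submodule.span_le]
          rintro _ ⟨i, rfl⟩
          exact (b i).2
        exact this hy
      have h2 : c • f ∈ M := by
        rw [eq_neg_of_add_eq_zero_left h]
        exact M.neg_mem hy'
      have h3 : (c.natAbs : ℤ) • f ∈ M := by
        rcases Int.natAbs_eq c with h4 | h4
        · rw [← h4]; exact h2
        · have : (c.natAbs : ℤ) = - c := by omega
          rw [this, neg_smul]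
          exact M.neg_mem h2
      obtain ⟨p, hp⟩ := h3
      refine hcon c.natAbs (Int.natAbs_pos.mpr hc) p ?_
      rw [← natCast_zsmul]
      exact hp.symm
  have h2 := hI _ _ h1
  have h3 : (fun i => v ((Fin.cons f (fun i => (b i : R)) : Fin (_ + 1) → R) i)) =
      (Fin.cons (v f) (fun i => v (b i)) : Fin (_ + 1) → S) := by
    funext i
    refine Fin.cases ?_ (fun i => ?_) i
    · rfl
    · rfl
  rw [h3, linearIndependent_finCons] at h2
  apply h2.2
  have h4 : ∀ x ∈ M, v x ∈ Submodule.span K (Set.range fun i => v (b i)) := by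
    intro x hx
    have h5 := congrArg (fun z : M => v (z : R)) (b.sum_repr ⟨x, hx⟩)
    simp only [Submodule.coe_sum, map_sum, Submodule.coe_smul] at h5
    rw [← h5]
    refine sum_mem fun i _ => ?_
    rw [map_zsmul, ← Int.cast_smul_eq_zsmul K]
    exact Submodule.smul_mem _ _ (Submodule.subset_span ⟨i, rfl⟩)
  rw [Algebra.adjoin_singleton_eq_range_aeval] at hf
  obtain ⟨p, hp⟩ := hf
  have hp' : aeval (v π) p = v f := hp
  rw [← hp', Polynomial.aeval_eq_sum_range]
  refine sum_mem fun i _ => Submodule.smul_mem _ _ ?_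
  rw [← map_pow]
  refine h4 _ ⟨X ^ i, ?_⟩
  change aeval π (X ^ i : ℤ[X]) = π ^ i
  rw [map_pow, aeval_X]

end descent

section rep

variable {R : Type*} [Ring R] {K V : Type*} [Field K] [AddCommGroup V] [Module K V] [FiniteDimensional K V]
  (v : R →+* Module.End K V)

/-- A central element acts as a polynomial in `π`. -/
theorem mem_adjoin_of_central (π f : R) (hss : (v π).IsSemisimple)
    (hspan : ∀ w : Module.End K V, w * v π = v π * w → w ∈ Submodule.span K (Set.range v))
    (hf : ∀ h : R, f * h = h * f) : v f ∈ Algebra.adjoin K {v π} := by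
  have := K522.ComRank.isSemisimpleRing_adjoin (v π) hss
  refine K522.DoubleCent.mem_of_commute (Algebra.adjoin K {v π}) (v f) fun c h x => ?_
  have h1 : c ∈ Submodule.span K (Set.range v) :=
    hspan c (LinearMap.ext fun y => h (v π) (Algebra.subset_adjoin rfl) y)
  have h2 : c * v f = v f * c := by
    clear h
    induction h1 using Submodule.span_induction with
    | mem y hy =>
      obtain ⟨r, rfl⟩ := hy
      rw [← map_mul, ← map_mul, hf r]
    | zero => rw [zero_mul, mul_zero]
    | add y z _ _ hy hz => rw [add_mul, mul_add, hy, hz]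
    | smul a y _ hy => rw [smul_mul_assoc, mul_smul_comm, hy]
  exact LinearMap.congr_fun h2 x

end rep

section center

variable {R : Type*} [Ring R] {S : Type*} [Ring S] [Algebra ℚ S] (j : R →+* S)
  (hj : Function.Injective j) (hs : ∀ x : S, ∃ (n : ℕ) (e : R), n ≠ 0 ∧ n • x = j e)

include hs in
theorem mem_adjoin_of_nsmul (π : R) (x : S) (h : ∀ (n : ℕ) (e : R), n ≠ 0 → n • x = j e →
    ∃ N : ℕ, 0 < N ∧ ∃ p : ℤ[X], N • e = aeval π p) : x ∈ Algebra.adjoin ℚ {j π} := by
  obtain ⟨n, e, hn, hne⟩ := hs x
  obtain ⟨N, hN, p, hp⟩ := h n e hn hne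
  have h1 : ((N * n : ℕ) : ℚ) • x = j (aeval π p) := by
    rw [Nat.cast_smul_eq_nsmul, mul_smul, hne, ← map_nsmul, hp]
  have h2 : ((N * n : ℕ) : ℚ) ≠ 0 := by exact_mod_cast Nat.mul_ne_zero hN.ne' hn
  have h3 : x = ((N * n : ℕ) : ℚ)⁻¹ • j (aeval π p) := by
    rw [← h1, smul_smul, inv_mul_cancel₀ h2, one_smul]
  rw [h3, map_aeval (K := ℚ) j p π]
  refine Subalgebra.smul_mem _ ?_ _
  rw [Algebra.adjoin_singleton_eq_range_aeval]
  exact ⟨_, rfl⟩

include hj hs in
/-- The centre of `ℚ ⊗ R` is `ℚ[π]`. -/
theorem center_eq (π : R) (hπ : ∀ h : R, π * h = h * π)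
    (hc : ∀ f : R, (∀ h : R, f * h = h * f) → ∃ N : ℕ, 0 < N ∧ ∃ p : ℤ[X], N • f = aeval π p) :
    Subalgebra.center ℚ S = Algebra.adjoin ℚ {j π} := by
  apply le_antisymm
  · intro x hx
    rw [Subalgebra.mem_center_iff] at hx
    refine mem_adjoin_of_nsmul j hs π x fun n e hn hne => hc e fun h => hj ?_
    rw [map_mul, map_mul, ← hne, smul_mul_assoc, mul_smul_comm, hx]
  · refine Algebra.adjoin_le ?_
    rintro _ rfl
    rw [SetLike.mem_coe, Subalgebra.mem_center_iff]
    intro x
    obtain ⟨n, e, hn, hne⟩ := hs x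
    have h1 : (n : ℚ) • (x * j π) = (n : ℚ) • (j π * x) := by
      rw [Nat.cast_smul_eq_nsmul, Nat.cast_smul_eq_nsmul, ← smul_mul_assoc, ← mul_smul_comm, hne, ← map_mul,
        ← map_mul, hπ]
    have h2 : (n : ℚ) ≠ 0 := by exact_mod_cast hn
    exact smul_right_injective S h2 h1

end center

end K425.CentAlg
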