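import Groth.Prelude.Def_EndRing
import Mathlib.Algebra.Polynomial.Eval.Defs
import Mathlib.Algebra.Polynomial.Eval.Degree

/-!
# Integral polynomials in an endomorphism, as products of powers
-/

set_option autoImplicit false
universe v u

open CategoryTheory MonoidalCategory CartesianMonoidalCategory MonObj

namespace K425.ProdForm

variable {C : Type u} [Category.{v} C] [CartesianMonoidalCategory C] [BraidedCategory C]
  {A : C} [GrpObj A] [IsCommMonObj A]

theorem toHom_pow (π : A ⟶ A) [IsMonHom π] (n : ℕ) :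
    ((EndAV.End.of π) ^ n).toHom = (fun h : A ⟶ A => h ≫ π)^[n] (𝟙 A) := by
  induction n with
  | zero => rfl
  | succ n ih => rw [EndAV.End.toHom_pow_succ, Function.iterate_succ_apply', ih, EndAV.End.toHom_of]

/-- The additive map from endomorphisms to morphisms. -/
def toAdd (A : C) [GrpObj A] [IsCommMonObj A] : EndAV.End A →+ Additive (A ⟶ A) :=
  { toFun := fun φ => Additive.ofMul φ.toHom, map_zero' := rfl, map_add' := fun _ _ => rfl }

theorem eq_prod (π f : A ⟶ A) [IsMonHom π] [IsMonHom f] (N : ℕ) (p : Polynomial ℤ)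
    (h : N • EndAV.End.of f = Polynomial.eval₂ (Int.castRingHom (EndAV.End A)) (EndAV.End.of π) p) :
    f ^ N = ∏ i : Fin (p.natDegree + 1), ((fun h : A ⟶ A => h ≫ π)^[(i : ℕ)] (𝟙 A)) ^ (p.coeff i) := by
  have h1 := congrArg (toAdd A) h
  rw [Polynomial.eval₂_eq_sum_range, map_nsmul, map_sum, Finset.sum_range] at h1
  have h2 : ∀ i : Fin (p.natDegree + 1),
      toAdd A (Int.castRingHom (EndAV.End A) (p.coeff i) * (EndAV.End.of π) ^ (i : ℕ)) =
      Additive.ofMul (((fun h : A ⟶ A => h ≫ π)^[(i : ℕ)] (𝟙 A)) ^ (p.coeff i)) := fun i => by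
    rw [eq_intCast, ← zsmul_eq_mul, ← toHom_pow, ← EndAV.End.toHom_zsmul]
    rfl
  simp only [h2] at h1
  rw [← ofMul_prod] at h1
  exact Additive.ofMul.injective h1

end K425.ProdForm
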