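import Groth.Agent.AbVar.K425.CentAlg
import Mathlib.RingTheory.Localization.Integral
import Mathlib.FieldTheory.IsAlgClosed.AlgebraicClosure

/-!
# The algebra `ℚ[π]`

`R` a ring, finite over `ℤ`, `j : R → S` its rationalisation, `v : R → End_K(V)` a faithful representation, `π ∈ R`.

* `isSemisimpleRing_adjoin`: `ℚ[π]` is semisimple if `v π` is.
* `finrank_adjoin`: the dimension of `ℚ[x]` is the degree of the minimal polynomial.
* `exists_sq`: if `R` is a domain then `S` has dimension `n²` over `ℚ[π]` and `n [ℚ[π] : ℚ] = dim V`, once the rank of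
  `R` is given by the multiplicities in the characteristic polynomial of `v π`.
-/

set_option autoImplicit false

namespace K425.SqAlg

open Polynomial UniqueFactorizationMonoid

theorem exists_clear (p : ℚ[X]) : ∃ (b : ℤ) (q : ℤ[X]), b ≠ 0 ∧ q.map (Int.castRingHom ℚ) = (b : ℚ) • p := by
  obtain ⟨b, hbm, hb⟩ := IsLocalization.integerNormalization_spec (nonZeroDivisors ℤ) p
  refine ⟨b, IsLocalization.integerNormalization (nonZeroDivisors ℤ) p, nonZeroDivisors.ne_zero hbm, ?_⟩
  rw [Int.cast_smul_eq_zsmul]
  exact hb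

section generic

variable {S : Type*} [Ring S] [Algebra ℚ S]

/-- The dimension of `ℚ[x]`. -/
theorem finrank_adjoin (x : S) : Module.finrank ℚ (Algebra.adjoin ℚ {x}) = (minpoly ℚ x).natDegree := by
  have h1 : Subalgebra.toSubmodule (Algebra.adjoin ℚ {x}) = LinearMap.range (aeval x : ℚ[X] →ₐ[ℚ] S).toLinearMap := by
    rw [Algebra.adjoin_singleton_eq_range_aeval]
    rfl
  have h2 : Module.finrank ℚ (Algebra.adjoin ℚ {x}) =
      Module.finrank ℚ (Subalgebra.toSubmodule (Algebra.adjoin ℚ {x})) := rfl
  have h3 : LinearMap.ker (aeval x : ℚ[X] →ₐ[ℚ] S).toLinearMap =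
      (Ideal.span {minpoly ℚ x} : Ideal ℚ[X]).restrictScalars ℚ := by
    ext p
    have := SetLike.ext_iff.mp (minpoly.ker_aeval_eq_span_minpoly ℚ x) p
    exact this
  rw [h2, h1, ← LinearEquiv.finrank_eq (LinearMap.quotKerEquivRange (aeval x : ℚ[X] →ₐ[ℚ] S).toLinearMap), h3]
  exact finrank_quotient_span_eq_natDegree

end generic

section

variable {R : Type*} [Ring R] {S : Type*} [Ring S] [Algebra ℚ S] (j : R →+* S)
  (hj : Function.Injective j) (hs : ∀ x : S, ∃ (n : ℕ) (e : R), n ≠ 0 ∧ n • x = j e)
  {K V : Type*} [Field K] [CharZero K] [AddCommGroup V] [Module K V] [FiniteDimensional K V]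
  (v : R →+* Module.End K V) (hv : Function.Injective v)

theorem isIntegral_map [Module.Finite ℤ R] (x : R) : IsIntegral ℚ (j x) := by
  have h : IsIntegral ℤ x := IsIntegral.of_finite ℤ x
  obtain ⟨p, hp, hpx⟩ := h
  refine ⟨p.map (Int.castRingHom ℚ), hp.map _, ?_⟩
  have h1 := CentAlg.map_aeval (K := ℚ) j p x
  rw [aeval_def] at h1
  change aeval (j x) (p.map (Int.castRingHom ℚ)) = 0
  rw [← h1, hpx, map_zero]

include hj in
/-- A rational polynomial killing `π` is killed by `v π`. -/
theorem aeval_eq_zero (π : R) (p : ℚ[X]) (hp : aeval (j π) p = 0) [Algebra ℚ K] :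
    aeval (v π) (p.map (algebraMap ℚ K)) = 0 := by
  obtain ⟨b, q, hb, hq⟩ := exists_clear p
  have h1 : j (aeval π q) = 0 := by
    rw [CentAlg.map_aeval (K := ℚ) j q π, hq, map_smul, hp, smul_zero]
  have h2 : aeval π q = 0 := hj (by rw [h1, map_zero])
  have h3 := CentAlg.map_aeval (K := K) v q π
  have h4 : q.map (Int.castRingHom K) = (b : K) • p.map (algebraMap ℚ K) := by
    have : q.map (Int.castRingHom K) = (q.map (Int.castRingHom ℚ)).map (algebraMap ℚ K) := by
      rw [Polynomial.map_map]
      congr 1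
      exact RingHom.ext_int _ _
    rw [this, hq, Polynomial.map_smul, map_intCast]
  rw [h2, map_zero, h4, map_smul] at h3
  have hb' : (b : K) ≠ 0 := by exact_mod_cast hb
  exact (smul_eq_zero_iff_right hb').mp h3.symm

include hj hv in
/-- `ℚ[π]` is semisimple. -/
theorem isSemisimpleRing_adjoin [Module.Finite ℤ R] (π : R) (hss : (v π).IsSemisimple) :
    IsSemisimpleRing (Algebra.adjoin ℚ {j π}) := by
  let _ : CommRing (Algebra.adjoin ℚ {j π}) := Algebra.adjoinCommRingOfComm ℚ (by
    rintro a ha b hb
    rw [Set.mem_singleton_iff.mp ha, Set.mem_singleton_iff.mp hb])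
  have hfin : Module.Finite ℚ (Algebra.adjoin ℚ {j π}) :=
    Module.Finite.iff_fg.mpr (isIntegral_map j π).fg_adjoin_singleton
  have hart : IsArtinianRing (Algebra.adjoin ℚ {j π}) := IsArtinianRing.of_finite ℚ _
  have hred : IsReduced (Algebra.adjoin ℚ {j π}) := by
    refine ⟨fun x hx => ?_⟩
    obtain ⟨x, hxm⟩ := x
    have hx' : IsNilpotent x := hx.map (Algebra.adjoin ℚ {j π}).val
    apply Subtype.ext
    change x = 0
    rw [Algebra.adjoin_singleton_eq_range_aeval] at hxm
    obtain ⟨p, hp⟩ := hxm
    have hp' : aeval (j π) p = x := hp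
    obtain ⟨b, q, hb, hq⟩ := exists_clear p
    have h1 : j (aeval π q) = (b : ℚ) • x := by
      rw [CentAlg.map_aeval (K := ℚ) j q π, hq, map_smul, hp']
    have h2 : IsNilpotent (aeval π q) := by
      obtain ⟨n, hn⟩ := hx'
      refine ⟨n, hj ?_⟩
      rw [map_pow, h1, smul_pow, hn, smul_zero, map_zero]
    have h3 : IsNilpotent (v (aeval π q)) := h2.map v
    have h4 : (v (aeval π q)).IsSemisimple := by
      rw [CentAlg.map_aeval (K := K) v q π]
      refine hss.of_mem_adjoin_singleton ?_
      rw [Algebra.adjoin_singleton_eq_range_aeval]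
      exact ⟨_, rfl⟩
    have h5 := Module.End.eq_zero_of_isNilpotent_isSemisimple h3 h4
    have h6 : aeval π q = 0 := hv (by rw [h5, map_zero])
    rw [h6, map_zero] at h1
    have hb' : (b : ℚ) ≠ 0 := by exact_mod_cast hb
    exact (smul_eq_zero_iff_right hb').mp h1.symm
  exact IsArtinianRing.isSemisimpleRing_of_isReduced _

include hj hs in
theorem noZeroDivisors (hdom : ∀ a b : R, a * b = 0 → a = 0 ∨ b = 0) : NoZeroDivisors S := by
  refine ⟨fun {x y} hxy => ?_⟩
  obtain ⟨n, e, hn, hne⟩ := hs x
  obtain ⟨m, f, hm, hmf⟩ := hs y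
  have hn' : (n : ℚ) ≠ 0 := by exact_mod_cast hn
  have hm' : (m : ℚ) ≠ 0 := by exact_mod_cast hm
  rw [← Nat.cast_smul_eq_nsmul ℚ] at hne hmf
  have h1 : j (e * f) = 0 := by
    rw [map_mul, ← hne, ← hmf, smul_mul_smul_comm, hxy, smul_zero]
  rcases hdom e f (hj (by rw [h1, map_zero])) with h | h
  · left
    rw [h, map_zero] at hne
    exact (smul_eq_zero_iff_right hn').mp hne
  · right
    rw [h, map_zero] at hmf
    exact (smul_eq_zero_iff_right hm').mp hmf

/-- All irreducible factors are equal. -/
theorem eq_minpoly [Algebra ℚ K] (T : Module.End K V) (m : ℚ[X]) (hm : Irreducible m) (hmm : m.Monic)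
    (hmT : aeval T (m.map (algebraMap ℚ K)) = 0) (P Q : ℚ[X]) (hP : T.charpoly = P.map (algebraMap ℚ K))
    (hQ : Irreducible Q) (hQm : Q.Monic) (hQP : Q ∣ P) : Q = m := by
  let L := AlgebraicClosure K
  obtain ⟨β, hβ⟩ := IsAlgClosed.exists_aeval_eq_zero L Q hQ.degree_pos.ne'
  have hβP : aeval β P = 0 := by
    obtain ⟨c, rfl⟩ := hQP
    rw [map_mul, hβ, zero_mul]
  have h1 : (T.charpoly.map (algebraMap K L)).eval β = 0 := by
    rw [hP, Polynomial.map_map, ← IsScalarTower.algebraMap_eq, eval_map_algebraMap]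
    exact hβP
  have h2 := K522.ComRank.eval_minpoly T L β h1
  have h3 : minpoly K T ∣ m.map (algebraMap ℚ K) := minpoly.dvd K T hmT
  have h4 : aeval β m = 0 := by
    obtain ⟨c, hc⟩ := h3
    rw [eval_map_algebraMap] at h2
    rw [← aeval_map_algebraMap K, hc, map_mul, h2, zero_mul]
  rw [minpoly.eq_of_irreducible_of_monic hQ hβ hQm, minpoly.eq_of_irreducible_of_monic hm h4 hmm]

open scoped Classical in
include hj hs in
/-- The dimension of a division algebra over `ℚ[π]`. -/
theorem exists_sq [Module.Finite ℤ R] [Algebra ℚ K] (hdom : ∀ a b : R, a * b = 0 → a = 0 ∨ b = 0) (π : R) (P : ℤ[X])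
    (hP : (v π).charpoly = P.map (Int.castRingHom K)) [Module.Finite ℚ S]
    (hS : Module.finrank ℚ S = ∑ Q ∈ (normalizedFactors (P.map (Int.castRingHom ℚ))).toFinset,
        (normalizedFactors (P.map (Int.castRingHom ℚ))).count Q *
          (normalizedFactors (P.map (Int.castRingHom ℚ))).count Q * Q.natDegree) :
    ∃ n : ℕ, Module.finrank (Algebra.adjoin ℚ {j π}) S = n ^ 2 ∧
      n * Module.finrank ℚ (Algebra.adjoin ℚ {j π}) = Module.finrank K V := by
  have hPK : P.map (Int.castRingHom K) = (P.map (Int.castRingHom ℚ)).map (algebraMap ℚ K) := by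
    rw [Polynomial.map_map]
    congr 1
    exact RingHom.ext_int _ _
  have hPm : P.Monic := by
    refine Polynomial.monic_of_injective (RingHom.injective_int (Int.castRingHom K)) ?_
    rw [← hP]
    exact LinearMap.charpoly_monic _
  set PQ := P.map (Int.castRingHom ℚ) with hPQ
  have hPQm : PQ.Monic := hPm.map _
  rcases subsingleton_or_nontrivial R with hR | hR
  · have hSs : Subsingleton S := by
      refine ⟨fun x y => ?_⟩
      have key : ∀ z : S, z = 0 := fun z => by
        have h1 : (1 : S) = 0 := by rw [← map_one j, Subsingleton.elim (1 : R) 0, map_zero]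
        rw [← one_mul z, h1, zero_mul]
      rw [key x, key y]
    have hVs : Subsingleton V := by
      refine ⟨fun x y => ?_⟩
      have key : ∀ z : V, z = 0 := fun z => by
        have h1 : (1 : Module.End K V) = 0 := by rw [← map_one v, Subsingleton.elim (1 : R) 0, map_zero]
        exact LinearMap.congr_fun h1 z
      rw [key x, key y]
    refine ⟨1, ?_, ?_⟩
    · rw [Module.finrank_subsingleton, one_pow]
    · rw [Module.finrank_zero_of_subsingleton, Module.finrank_zero_of_subsingleton]
  · have hSn : Nontrivial S := hj.nontrivial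
    have hnz := noZeroDivisors j hj hs hdom
    have hSd : IsDomain S := NoZeroDivisors.to_isDomain S
    have hint : IsIntegral ℚ (j π) := isIntegral_map j π
    set m := minpoly ℚ (j π) with hm
    have hmi : Irreducible m := minpoly.irreducible hint
    have hmm : m.Monic := minpoly.monic hint
    have hmT : aeval (v π) (m.map (algebraMap ℚ K)) = 0 := aeval_eq_zero j hj v π m (minpoly.aeval ℚ _)
    have hall : ∀ Q ∈ normalizedFactors PQ, Q = m := by
      intro Q hQ
      have h1 := irreducible_of_normalized_factor Q hQ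
      have h2 : Q.Monic := by
        have := normalize_normalized_factor Q hQ
        rw [← this]
        exact Polynomial.monic_normalize h1.ne_zero
      exact eq_minpoly (v π) m hmi hmm hmT PQ Q (by rw [hP, hPK]) h1 h2 (dvd_of_mem_normalizedFactors hQ)
    have hrep := Multiset.eq_replicate_card.mpr hall
    set n := Multiset.card (normalizedFactors PQ) with hn
    have hprod : PQ = m ^ n := by
      have h1 : (normalizedFactors PQ).prod = PQ := by
        rw [prod_normalizedFactors_eq hPQm.ne_zero, hPQm.normalize_eq_self]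
      rw [← h1, hrep, Multiset.prod_replicate]
    have hdeg : Module.finrank K V = n * m.natDegree := by
      have h1 := LinearMap.charpoly_natDegree (v π)
      rw [← h1, hP, hPK, Polynomial.natDegree_map, hprod, Polynomial.natDegree_pow]
    have hsum : Module.finrank ℚ S = n ^ 2 * m.natDegree := by
      rw [hS]
      rcases Nat.eq_zero_or_pos n with h0 | h0
      · have h1 : normalizedFactors PQ = 0 := Multiset.card_eq_zero.mp h0
        rw [h0, h1]
        simp
      · rw [hrep, Multiset.toFinset_replicate, if_neg h0.ne', Finset.sum_singleton, Multiset.count_replicate_self]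
        ring
    have hK := finrank_adjoin (j π)
    -- the field `ℚ[π]`
    have hfinK : Module.Finite ℚ (Algebra.adjoin ℚ {j π}) := Module.Finite.iff_fg.mpr hint.fg_adjoin_singleton
    have hunit : ∀ a : Algebra.adjoin ℚ {j π}, IsUnit a ∨ a = 0 := by
      intro a
      by_cases ha : a = 0
      · exact Or.inr ha
      · left
        have h1 : Function.Injective (LinearMap.mulLeft ℚ a) := by
          intro x y hxy
          exact mul_left_cancel₀ ha hxy
        have h2 := LinearMap.injective_iff_surjective.mp h1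
        obtain ⟨b, hb⟩ := h2 1
        have h3 : Function.Injective (LinearMap.mulRight ℚ a) := by
          intro x y hxy
          exact mul_right_cancel₀ ha hxy
        obtain ⟨c, hc⟩ := (LinearMap.injective_iff_surjective.mp h3) 1
        exact isUnit_iff_exists_and_exists.mpr ⟨⟨b, hb⟩, ⟨c, hc⟩⟩
    let _ : DivisionRing (Algebra.adjoin ℚ {j π}) := DivisionRing.ofIsUnitOrEqZero hunit
    have htower := Module.finrank_mul_finrank ℚ (Algebra.adjoin ℚ {j π}) S
    refine ⟨n, ?_, ?_⟩
    · rw [hsum, hK] at htower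
      have h0 : 0 < m.natDegree := hmi.natDegree_pos
      refine Nat.eq_of_mul_eq_mul_left h0 ?_
      rw [htower, mul_comm]
    · rw [hK, hdeg]

end

end K425.SqAlg
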