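import Groth.Agent.AbVar.K425.SqAlg
import Groth.Agent.AbVar.K522.VRep

/-!
# Commutativity of the endomorphism ring and the characteristic polynomial of Frobenius

Abelian varieties over a finite field, Tate's theorem as a hypothesis.

* `comm_iff`: `End(X)` is commutative iff the characteristic polynomial of Frobenius is squarefree.
* `squarefree_iff`: this is equivalent to `dim End⁰(X) = 2g`.
* `finrank_eq_iff`: `dim End⁰(X) = (2g)²` iff Frobenius is an integer.
* `eq_int_iff`: this is equivalent to `P = (X - a)^(2g)`.
-/

set_option autoImplicit false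
universe u

open TensorProduct CategoryTheory CategoryTheory.Limits AlgebraicGeometry MonoidalCategory CartesianMonoidalCategory
open MonObj GrpObj
open AbDual

noncomputable section

namespace K425.SqFree

section algebra

open Polynomial

variable {R : Type*} [Ring R] {K V : Type*} [Field K] [CharZero K] [AddCommGroup V] [Module K V]
  [FiniteDimensional K V] (v : R →+* Module.End K V) (hv : Function.Injective v)

/-- The commutant of `v π`, from the span of the image. -/
theorem com_eq_span (π : R) (hπ : ∀ h : R, π * h = h * π)
    (hspan : ∀ w : Module.End K V, w * v π = v π * w → w ∈ Submodule.span K (Set.range v)) :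
    K522.ComRank.Com (v π) = Submodule.span K (Set.range v) := by
  apply le_antisymm
  · intro w hw
    exact hspan w ((K522.ComRank.mem_Com _ _).mp hw)
  · rw [Submodule.span_le]
    rintro _ ⟨r, rfl⟩
    rw [SetLike.mem_coe, K522.ComRank.mem_Com, ← map_mul, ← map_mul, hπ]

include hv in
theorem comm_iff_com (π : R) (hπ : ∀ h : R, π * h = h * π)
    (hspan : ∀ w : Module.End K V, w * v π = v π * w → w ∈ Submodule.span K (Set.range v)) :
    (∀ a b : R, a * b = b * a) ↔
      ∀ a ∈ K522.ComRank.Com (v π), ∀ b ∈ K522.ComRank.Com (v π), a * b = b * a := by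
  rw [com_eq_span v π hπ hspan]
  constructor
  · intro h a ha b hb
    induction ha using Submodule.span_induction with
    | mem x hx =>
      obtain ⟨r, rfl⟩ := hx
      induction hb using Submodule.span_induction with
      | mem y hy =>
        obtain ⟨s, rfl⟩ := hy
        rw [← map_mul, ← map_mul, h]
      | zero => rw [mul_zero, zero_mul]
      | add y z _ _ hy hz => rw [mul_add, add_mul, hy, hz]
      | smul c y _ hy => rw [smul_mul_assoc, mul_smul_comm, hy]
    | zero => rw [mul_zero, zero_mul]
    | add y z _ _ hy hz => rw [mul_add, add_mul, hy, hz]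
    | smul c y _ hy => rw [smul_mul_assoc, mul_smul_comm, hy]
  · intro h a b
    apply hv
    rw [map_mul, map_mul]
    exact h _ (Submodule.subset_span ⟨a, rfl⟩) _ (Submodule.subset_span ⟨b, rfl⟩)

/-- Squarefreeness over `ℚ` and over `K`. -/
theorem squarefree_map_iff [Algebra ℚ K] (P : ℤ[X]) :
    Squarefree (P.map (Int.castRingHom K)) ↔ Squarefree (P.map (Int.castRingHom ℚ)) := by
  have h : P.map (Int.castRingHom K) = (P.map (Int.castRingHom ℚ)).map (algebraMap ℚ K) := by
    rw [Polynomial.map_map]
    congr 1
    exact RingHom.ext_int _ _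
  rw [h, ← PerfectField.separable_iff_squarefree, ← PerfectField.separable_iff_squarefree,
    Polynomial.separable_map]

omit [CharZero K] in
/-- A semisimple endomorphism with characteristic polynomial a power of a linear polynomial is scalar. -/
theorem eq_scalar_of_charpoly (T : Module.End K V) (hT : T.IsSemisimple) (a : K) (n : ℕ)
    (h : T.charpoly = (X - C a) ^ n) : T = algebraMap K _ a := by
  rcases Nat.eq_zero_or_pos n with hn | hn
  · have h0 : Module.finrank K V = 0 := by
      rw [← LinearMap.charpoly_natDegree T, h, hn, pow_zero, natDegree_one]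
    have h1 : Subsingleton V := Module.finrank_zero_iff.mp h0
    exact LinearMap.ext fun x => Subsingleton.elim _ _
  have h1 : minpoly K T ∣ (X - C a) ^ n := h ▸ LinearMap.minpoly_dvd_charpoly T
  have h2 : Squarefree (minpoly K T) := hT.minpoly_squarefree
  have h3 : minpoly K T ∣ X - C a := (h2.dvd_pow_iff_dvd hn.ne').mp h1
  have h4 : aeval T (X - C a) = 0 := minpoly.dvd_iff.mp h3
  rw [map_sub, aeval_X, aeval_C, sub_eq_zero] at h4
  exact h4

include hv in
/-- An element acting as a scalar is an integer. -/
theorem exists_int [Module.Finite ℤ R] [IsAddTorsionFree R] [Algebra ℚ K]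
    (hI : ∀ (n : ℕ) (e : Fin n → R), LinearIndependent ℤ e → LinearIndependent K (fun i => v (e i)))
    (π : R) (c : K) (hc : v π = algebraMap K _ c) : ∃ n : ℤ, π = n := by
  rcases subsingleton_or_nontrivial V with hV | hV
  · refine ⟨0, hv ?_⟩
    exact LinearMap.ext fun x => Subsingleton.elim _ _
  obtain ⟨N, hN, p, hp⟩ := CentAlg.exists_nsmul_eq_aeval v hI 1 π (by
    rw [hc]
    exact Subalgebra.algebraMap_mem _ c)
  have h1 : N • π = ((p.eval 1 : ℤ) : R) := by
    rw [hp]
    have : aeval (1 : R) p = algebraMap ℤ R (p.eval 1) := by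
      rw [← map_one (algebraMap ℤ R), aeval_algebraMap_apply]
      rfl
    rw [this, eq_intCast]
  have h2 : (N : K) * c = ((p.eval 1 : ℤ) : K) := by
    have h3 := congrArg v h1
    rw [map_nsmul, hc, map_intCast] at h3
    have h4 : algebraMap K (Module.End K V) ((N : K) * c) = algebraMap K (Module.End K V) ((p.eval 1 : ℤ) : K) := by
      rw [map_mul, map_natCast, map_intCast, ← h3, nsmul_eq_mul]
    exact (algebraMap K (Module.End K V)).injective h4
  have hN' : (N : K) ≠ 0 := by exact_mod_cast hN.ne'
  have h3 : c = algebraMap ℚ K ((p.eval 1 : ℤ) / (N : ℚ)) := by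
    rw [map_div₀, map_intCast, map_natCast, eq_div_iff hN', mul_comm, h2]
  have h4 : IsIntegral ℤ c := by
    obtain ⟨F, hF, hFπ⟩ := IsIntegral.of_finite ℤ π
    refine ⟨F, hF, ?_⟩
    have h5 := CentAlg.map_aeval (K := K) v F π
    have h6 : aeval π F = 0 := hFπ
    rw [h6, map_zero, hc, aeval_algebraMap_apply] at h5
    have h7 : aeval c (F.map (Int.castRingHom K)) = 0 :=
      (algebraMap K (Module.End K V)).injective (by rw [← h5, map_zero])
    rw [aeval_def, eval₂_map] at h7
    rw [← h7]
    congr 1
  rw [h3] at h4
  have h5 : IsIntegral ℤ ((p.eval 1 : ℤ) / (N : ℚ)) :=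
    (isIntegral_algebraMap_iff (algebraMap ℚ K).injective).mp h4
  obtain ⟨n, hn⟩ := IsIntegrallyClosed.isIntegral_iff.mp h5
  refine ⟨n, hv ?_⟩
  rw [hc, h3, ← hn, eq_intCast, map_intCast, map_intCast, map_intCast]

/-- The characteristic polynomial of a scalar. -/
theorem charpoly_algebraMap {A M : Type*} [CommRing A] [Nontrivial A] [AddCommGroup M] [Module A M] [Module.Free A M]
    [Module.Finite A M] (a : A) :
    (algebraMap A (Module.End A M) a).charpoly = (X - C a) ^ Module.finrank A M := by
  classical
  rw [← LinearMap.charpoly_toMatrix _ (Module.Free.chooseBasis A M), LinearMap.toMatrix_algebraMap,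
    Matrix.scalar_apply, Matrix.charpoly_diagonal, Finset.prod_const, Finset.card_univ,
    Module.finrank_eq_card_chooseBasisIndex]

end algebra

end K425.SqFree
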