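import Groth.Agent.AbVar.K425.TateApp
import Groth.Agent.AbVar.K425.SqFree

/-!
# Commutativity of the endomorphism ring and the characteristic polynomial of Frobenius

Abelian varieties over a finite field, Tate's theorem as a hypothesis.

* `comm_iff`: `End(X)` is commutative iff the characteristic polynomial of Frobenius is squarefree.
* `squarefree_iff`: this is equivalent to `dim End⁰(X) = 2g`.
* `finrank_eq_iff`: `dim End⁰(X) = (2g)²` iff Frobenius is an integer.
* `eq_int_iff`: this is equivalent to `P = (X - a)^(2g)`.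
-/

set_option autoImplicit false
universe u

open TensorProduct CategoryTheory CategoryTheory.Limits AlgebraicGeometry MonoidalCategory CartesianMonoidalCategory
open MonObj GrpObj
open K520.Frob AbDual K522.TateAbs K522.VRep K522.HomRank K425.TateApp

noncomputable section

namespace K425.SqApp

variable {k : Type u} [Field k] (Ω : Type u) [Field Ω] [Algebra k Ω] {l : ℕ} [Fact l.Prime] [IsAlgClosed Ω]
  {A : Over (Spec (CommRingCat.of k))}
  [GrpObj A] [IsCommMonObj A] [IsProper A.hom] [GeometricallyIntegral A.hom]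

theorem isSemisimple_rep [Finite k] (π : A ⟶ A) [IsMonHom π]
    (hπ : IsFrob (Nat.card k) π.left) : Module.End.IsSemisimple (rep Ω l A (EndAV.End.of π)) := by
  have h1 : Module.Finite ℤ (EndAV.End A) := K522.Bridge.finite_hom A A
  exact K516.FrobSS.isSemisimple_frob A (Nat.card k) Nat.card_pos.ne' π hπ l _

theorem charpoly_rep (f : A ⟶ A) [IsMonHom f] [Module.Free ℤ_[l] (TateMod A l (SGA7.pt (K := k) Ω))]
    [Module.Finite ℤ_[l] (TateMod A l (SGA7.pt (K := k) Ω))] (P : Polynomial ℤ)
    (hP : (tateMapₗ (l := l) (T := SGA7.pt (K := k) Ω) f).charpoly = P.map (Int.castRingHom ℤ_[l])) :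
    (rep Ω l A (EndAV.End.of f)).charpoly = P.map (Int.castRingHom ℚ_[l]) := by
  have h3 := K522.RankThm.charpoly_baseChange_eq (K := ℚ_[l]) _ P hP
  rw [Polynomial.map_map] at h3
  refine h3.trans ?_
  congr 1

variable [Finite k] [Algebra.IsAlgebraic k Ω] (hl : (l : k) ≠ 0) (π : A ⟶ A) [IsMonHom π]
    (hπ : IsFrob (Nat.card k) π.left) (hT : TateThm Ω l A A) (g : ℕ) (hg : topologicalKrullDim A.left = g)
    [Module.Free ℤ_[l] (TateMod A l (SGA7.pt (K := k) Ω))] [Module.Finite ℤ_[l] (TateMod A l (SGA7.pt (K := k) Ω))]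
    (P : Polynomial ℤ)
    (hP : (tateMapₗ (l := l) (T := SGA7.pt (K := k) Ω) π).charpoly = P.map (Int.castRingHom ℤ_[l]))

include hl hπ hT hP in
/-- `End(X)` is commutative iff the characteristic polynomial is squarefree. -/
theorem comm_iff : (∀ a b : EndAV.End A, a * b = b * a) ↔ Squarefree (P.map (Int.castRingHom ℚ)) := by
  rw [SqFree.comm_iff_com (rep Ω l A) (injective_rep Ω hl) (EndAV.End.of π) (commute_frob π hπ)
    (mem_span Ω hl π hπ hT), K522.ComRank.comm_iff _ (isSemisimple_rep Ω π hπ), charpoly_rep Ω π P hP,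
    SqFree.squarefree_map_iff]

include hl hπ hT hg hP in
/-- The dimension of the endomorphism algebra is `2g` iff the characteristic polynomial is squarefree. -/
theorem squarefree_iff :
    Squarefree (P.map (Int.castRingHom ℚ)) ↔ Module.finrank ℚ (EndAV.End0 A) = 2 * g := by
  classical
  have h1 : Module.Finite ℤ (EndAV.End A) := K522.Bridge.finite_hom A A
  have h1' : Module.Free ℤ (EndAV.End A) := K522.Bridge.free_hom A A
  have hac : IsAlgClosure k Ω := ⟨inferInstance, inferInstance⟩
  have hss := isSemisimple_rep (l := l) Ω π hπ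
  have hr := K522.RankThm.finrank_hom_int hl π hπ π hπ hT (fun n e he => K522.Bridge.linearIndependent Ω hl e he)
    ⟨h1', h1⟩ hss hss P hP P hP
  have hPm : P.Monic := by
    refine Polynomial.monic_of_injective (RingHom.injective_int (Int.castRingHom ℤ_[l])) ?_
    rw [← hP]
    exact LinearMap.charpoly_monic _
  have hdeg : (P.map (Int.castRingHom ℚ)).natDegree = 2 * g := by
    rw [Polynomial.natDegree_map_eq_of_injective (RingHom.injective_int _),
      ← Polynomial.natDegree_map_eq_of_injective (RingHom.injective_int (Int.castRingHom ℤ_[l])), ← hP,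
      LinearMap.charpoly_natDegree]
    exact K523.RankTate.finrank_tate Ω A l hl g hg
  rw [← K522.ComRank.sum_sq_eq_iff _ (hPm.map _), hdeg, finrank_end0]
  have hr' : Module.finrank ℤ (EndAV.End A) = _ := hr
  rw [hr']

include hl hπ hT in
theorem finrank_eq_com : Module.finrank ℚ (EndAV.End0 A) =
    Module.finrank ℚ_[l] (K522.ComRank.Com (rep Ω l A (EndAV.End.of π))) := by
  have h1 : Module.Finite ℤ (EndAV.Hom A A) := K522.Bridge.finite_hom A A
  have h1' : Module.Free ℤ (EndAV.Hom A A) := K522.Bridge.free_hom A A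
  rw [SqFree.com_eq_span (rep Ω l A) (EndAV.End.of π) (commute_frob π hπ) (mem_span Ω hl π hπ hT), range_rep,
    finrank_end0]
  exact (finrank_span_V (X := A) (Y := A) (fun n e he => K522.Bridge.linearIndependent Ω hl e he)).symm

theorem finrank_rep (hl : (l : k) ≠ 0) (g : ℕ) (hg : topologicalKrullDim A.left = g)
    [Module.Free ℤ_[l] (TateMod A l (SGA7.pt (K := k) Ω))] [Module.Finite ℤ_[l] (TateMod A l (SGA7.pt (K := k) Ω))] :
    Module.finrank ℚ_[l] (Vl l (SGA7.pt (K := k) Ω) A) = 2 * g := by
  rw [Module.finrank_baseChange]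
  exact K523.RankTate.finrank_tate Ω A l hl g hg

include hl hπ hT hg in
/-- The dimension of the endomorphism algebra is `(2g)²` iff Frobenius is an integer. -/
theorem finrank_eq_iff :
    Module.finrank ℚ (EndAV.End0 A) = (2 * g) ^ 2 ↔ ∃ n : ℤ, EndAV.End.of π = (n : EndAV.End A) := by
  have h1 : Module.Finite ℤ (EndAV.End A) := K522.Bridge.finite_hom A A
  have h1' : IsAddTorsionFree (EndAV.End A) := inferInstanceAs (IsAddTorsionFree (EndAV.Hom A A))
  rw [finrank_eq_com Ω hl π hπ hT, ← finrank_rep Ω hl g hg]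
  constructor
  · intro h
    obtain ⟨c, hc⟩ := K522.ComRank.exists_scalar _ h.ge
    exact SqFree.exists_int (rep Ω l A) (injective_rep Ω hl) (linearIndependent_rep Ω hl) _ c hc
  · rintro ⟨n, hn⟩
    have h2 : K522.ComRank.Com (rep Ω l A (EndAV.End.of π)) = ⊤ := by
      rw [eq_top_iff]
      intro φ _
      rw [K522.ComRank.mem_Com, hn, map_intCast]
      exact (Int.cast_commute n φ).symm
    rw [h2, finrank_top, Module.finrank_linearMap, sq]

include hl hπ hg hP in
/-- Frobenius is an integer iff the characteristic polynomial is a power of a linear polynomial. -/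
theorem eq_int_iff : (∃ n : ℤ, EndAV.End.of π = (n : EndAV.End A)) ↔
    ∃ a : ℤ, P = (Polynomial.X - Polynomial.C a) ^ (2 * g) := by
  constructor
  · rintro ⟨n, hn⟩
    refine ⟨n, Polynomial.map_injective (Int.castRingHom ℤ_[l]) (RingHom.injective_int _) ?_⟩
    rw [← hP]
    have h1 : tateMapₗ (l := l) (T := SGA7.pt (K := k) Ω) π =
        algebraMap ℤ_[l] (Module.End ℤ_[l] (TateMod A l (SGA7.pt (K := k) Ω))) (n : ℤ_[l]) := by
      have h2 := congrArg (EndAV.End.tateRep l (SGA7.pt (K := k) Ω)) hn
      rw [map_intCast] at h2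
      rw [map_intCast]
      exact h2
    rw [h1, SqFree.charpoly_algebraMap, K523.RankTate.finrank_tate Ω A l hl g hg, Polynomial.map_pow,
      Polynomial.map_sub, Polynomial.map_X, Polynomial.map_C]
    rfl
  · rintro ⟨a, ha⟩
    refine ⟨a, injective_rep Ω hl ?_⟩
    have h1 := charpoly_rep Ω π P hP
    rw [ha, Polynomial.map_pow, Polynomial.map_sub, Polynomial.map_X, Polynomial.map_C] at h1
    rw [SqFree.eq_scalar_of_charpoly _ (isSemisimple_rep Ω π hπ) _ _ h1, eq_intCast, map_intCast, map_intCast]

end K425.SqApp
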