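import Groth.Agent.AbVar.K425.SqAlg
import Groth.Agent.AbVar.K522.Bridge
import Groth.Agent.AbVar.K522.DegDet
import Groth.Agent.AbVar.K516.FrobSS
import Groth.Agent.AbVar.K523.RankTate
import Groth.Agent.AbVar.K517.Simple

/-!
# The endomorphism algebra of an abelian variety over a finite field

Consequences of Tate's theorem (`K522.HomRank.TateThm`, taken as a hypothesis).

* `exists_nsmul`: a central endomorphism has a multiple in `ℤ[π]`.
* `center_eq`: the centre of `End⁰(A)` is `ℚ[π]`.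
* `isSemisimpleRing_QAdj`: `ℚ[π]` is semisimple.
* `exists_sq`: for `A` simple, `End⁰(A)` has dimension `n²` over `ℚ[π]` and `n [ℚ[π] : ℚ] = 2g`.
-/

set_option autoImplicit false
universe u

open TensorProduct CategoryTheory CategoryTheory.Limits AlgebraicGeometry MonoidalCategory CartesianMonoidalCategory
open MonObj GrpObj
open K520.Frob AbDual K522.TateAbs K522.VRep K522.HomRank

noncomputable section

namespace K425.TateApp

variable {k : Type u} [Field k]

theorem exists_prime (k : Type u) [Field k] : ∃ l : ℕ, l.Prime ∧ (l : k) ≠ 0 := by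
  obtain ⟨p, hp⟩ := CharP.exists k
  by_cases h : p = 2
  · refine ⟨3, Nat.prime_three, fun h3 => ?_⟩
    have := (CharP.cast_eq_zero_iff k p 3).mp h3
    rw [h] at this
    omega
  · refine ⟨2, Nat.prime_two, fun h2 => ?_⟩
    have h3 := (CharP.cast_eq_zero_iff k p 2).mp h2
    have h4 := CharP.char_is_prime_or_zero k p
    rcases h4 with h4 | h4
    · exact h ((Nat.prime_dvd_prime_iff_eq h4 Nat.prime_two).mp h3)
    · rw [h4] at h3
      exact absurd (Nat.eq_zero_of_zero_dvd h3) two_ne_zero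

variable (Ω : Type u) [Field Ω] [Algebra k Ω] (l : ℕ) [Fact l.Prime] {A : Over (Spec (CommRingCat.of k))}
  [GrpObj A] [IsCommMonObj A] [IsProper A.hom] [GeometricallyIntegral A.hom]

/-- The representation of the endomorphism ring on `V_l(A)`. -/
abbrev rep (A : Over (Spec (CommRingCat.of k))) [GrpObj A] [IsCommMonObj A] :
    EndAV.End A →+* Module.End ℚ_[l] (Vl l (SGA7.pt (K := k) Ω) A) :=
  vRep l (SGA7.pt (K := k) Ω) A

theorem range_rep : Set.range (rep Ω l A) = Set.range (VHom Ω l A A) := by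
  rw [range_vRep, range_VHom]

variable {l} [IsAlgClosed Ω]

include Ω in
theorem finite_tate (hl : (l : k) ≠ 0) : Module.Finite ℤ_[l] (TateMod A l (SGA7.pt (K := k) Ω)) :=
  K520.TateFin.finite_tateMod Ω A l hl

theorem linearIndependent_rep (hl : (l : k) ≠ 0) (n : ℕ) (e : Fin n → EndAV.End A) (he : LinearIndependent ℤ e) :
    LinearIndependent ℚ_[l] (fun i => rep Ω l A (e i)) := by
  have hf : Module.Finite ℤ_[l] (TateMod A l (SGA7.pt (K := k) Ω)) := finite_tate Ω hl
  have ht := isTorsionFree_tateMod (l := l) A (SGA7.pt (K := k) Ω)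
  have hfr : Module.Free ℤ_[l] (TateMod A l (SGA7.pt (K := k) Ω)) := Module.free_of_finite_type_torsion_free'
  have h1 := K522.Bridge.linearIndependent (X := A) (Y := A) Ω hl e he
  have h2 : LinearIndependent ℤ_[l] (fun i => VHom Ω l A A (e i)) :=
    h1.map' (LinearMap.baseChangeHom ℤ_[l] ℚ_[l] _ _) (LinearMap.ker_eq_bot.mpr baseChange_injective)
  exact (LinearIndependent.iff_fractionRing ℤ_[l] ℚ_[l]).mp h2

theorem injective_rep (hl : (l : k) ≠ 0) : Function.Injective (rep Ω l A) := by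
  have hf : Module.Finite ℤ_[l] (TateMod A l (SGA7.pt (K := k) Ω)) := finite_tate Ω hl
  have ht := isTorsionFree_tateMod (l := l) A (SGA7.pt (K := k) Ω)
  have hfr : Module.Free ℤ_[l] (TateMod A l (SGA7.pt (K := k) Ω)) := Module.free_of_finite_type_torsion_free'
  intro a b hab
  exact K522.Bridge.injective_tateMap Ω hl (baseChange_injective (K := ℚ_[l]) hab)

/-- The commutant of Frobenius is spanned by the endomorphisms. -/
theorem mem_span [Finite k] [Algebra.IsAlgebraic k Ω] (hl : (l : k) ≠ 0) (π : A ⟶ A) [IsMonHom π]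
    (hπ : IsFrob (Nat.card k) π.left) (hT : TateThm Ω l A A)
    (w : Module.End ℚ_[l] (Vl l (SGA7.pt (K := k) Ω) A))
    (hw : w * rep Ω l A (EndAV.End.of π) = rep Ω l A (EndAV.End.of π) * w) :
    w ∈ Submodule.span ℚ_[l] (Set.range (rep Ω l A)) := by
  have hf : Module.Finite ℤ_[l] (TateMod A l (SGA7.pt (K := k) Ω)) := finite_tate Ω hl
  have ht := isTorsionFree_tateMod (l := l) A (SGA7.pt (K := k) Ω)
  have hfr : Module.Free ℤ_[l] (TateMod A l (SGA7.pt (K := k) Ω)) := Module.free_of_finite_type_torsion_free'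
  rw [range_rep]
  exact mem_span_of_comm (K522.RankThm.finite_tors_pow hl) (K522.RankThm.finite_tors_pow hl) π hπ π hπ hT w hw

theorem commute_frob [Finite k] (π : A ⟶ A) [IsMonHom π] (hπ : IsFrob (Nat.card k) π.left) (h : EndAV.End A) :
    EndAV.End.of π * h = h * EndAV.End.of π :=
  EndAV.End.ext (Over.OverMorphism.ext (hπ.comm hπ h.toHom.left).symm)

theorem exists_aeval [Finite k] [Algebra.IsAlgebraic k Ω] (hl : (l : k) ≠ 0) (π : A ⟶ A) [IsMonHom π]
    (hπ : IsFrob (Nat.card k) π.left) (hT : TateThm Ω l A A) (f : EndAV.End A)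
    (hf : ∀ h : EndAV.End A, f * h = h * f) :
    ∃ N : ℕ, 0 < N ∧ ∃ p : Polynomial ℤ,
      N • f = Polynomial.eval₂ (Int.castRingHom (EndAV.End A)) (EndAV.End.of π) p := by
  have h1 : Module.Finite ℤ (EndAV.End A) := K522.Bridge.finite_hom A A
  have h1' : IsAddTorsionFree (EndAV.End A) := inferInstanceAs (IsAddTorsionFree (EndAV.Hom A A))
  have hfT : Module.Finite ℤ_[l] (TateMod A l (SGA7.pt (K := k) Ω)) := finite_tate Ω hl
  have h2 : Module.End.IsSemisimple (rep Ω l A (EndAV.End.of π)) :=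
    K516.FrobSS.isSemisimple_frob A (Nat.card k) Nat.card_pos.ne' π hπ l _
  exact CentAlg.exists_nsmul_eq_aeval (K := ℚ_[l]) (rep Ω l A) (linearIndependent_rep Ω hl) (EndAV.End.of π) f
    (CentAlg.mem_adjoin_of_central (rep Ω l A) (EndAV.End.of π) f h2 (mem_span Ω hl π hπ hT) hf)

/-! ### The rational endomorphism algebra -/

/-- `End(A) → End⁰(A)`. -/
abbrev jj (A : Over (Spec (CommRingCat.of k))) [GrpObj A] [IsCommMonObj A] : EndAV.End A →+* EndAV.End0 A :=
  (EndAV.toEnd0 : EndAV.End A →ₐ[ℤ] EndAV.End0 A).toRingHom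

theorem jj_apply (f : EndAV.End A) : jj A f = (1 : ℚ) ⊗ₜ[ℤ] f := rfl

theorem injective_jj : Function.Injective (jj A) := by
  have h1 : Module.Free ℤ (EndAV.End A) := K522.Bridge.free_hom A A
  intro a b hab
  rw [jj_apply, jj_apply] at hab
  have h2 : Function.Injective (TensorProduct.mk ℤ ℚ (EndAV.End A) 1) := by
    have h3 : Function.Injective (LinearMap.rTensor (EndAV.End A) (Algebra.linearMap ℤ ℚ)) :=
      Module.Flat.rTensor_preserves_injective_linearMap _ (RingHom.injective_int (algebraMap ℤ ℚ))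
    have h4 : ∀ x : EndAV.End A, TensorProduct.mk ℤ ℚ (EndAV.End A) 1 x =
        LinearMap.rTensor (EndAV.End A) (Algebra.linearMap ℤ ℚ) ((TensorProduct.lid ℤ (EndAV.End A)).symm x) := by
      intro x
      rw [TensorProduct.lid_symm_apply, LinearMap.rTensor_tmul, TensorProduct.mk_apply, Algebra.linearMap_apply, map_one]
    intro x y hxy
    rw [h4, h4] at hxy
    exact (TensorProduct.lid ℤ (EndAV.End A)).symm.injective (h3 hxy)
  exact h2 hab

theorem exists_nsmul_jj (x : EndAV.End0 A) : ∃ (n : ℕ) (e : EndAV.End A), n ≠ 0 ∧ n • x = jj A e := by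
  obtain ⟨n, e, hn, rfl⟩ := K522.RHAlg.exists_tmul x
  refine ⟨n, e, hn, ?_⟩
  have hn' : (n : ℚ) ≠ 0 := by exact_mod_cast hn
  rw [jj_apply, TensorProduct.smul_tmul', nsmul_eq_mul, mul_inv_cancel₀ hn']

/-- The centre of the endomorphism algebra. -/
theorem center_eq [Finite k] [Algebra.IsAlgebraic k Ω] (hl : (l : k) ≠ 0) (π : A ⟶ A) [IsMonHom π]
    (hπ : IsFrob (Nat.card k) π.left) (hT : TateThm Ω l A A) :
    Subalgebra.center ℚ (EndAV.End0 A) = EndAV.QAdj (EndAV.End.of π) :=
  CentAlg.center_eq (jj A) injective_jj exists_nsmul_jj (EndAV.End.of π) (commute_frob π hπ)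
    (exists_aeval Ω hl π hπ hT)

/-- `ℚ[π]` is semisimple. -/
theorem isSemisimpleRing_QAdj [Finite k] (π : A ⟶ A) [IsMonHom π] (hπ : IsFrob (Nat.card k) π.left) :
    IsSemisimpleRing (EndAV.QAdj (EndAV.End.of π)) := by
  obtain ⟨l, hlp, hl⟩ := exists_prime k
  have hfl : Fact l.Prime := ⟨hlp⟩
  have h1 : Module.Finite ℤ (EndAV.End A) := K522.Bridge.finite_hom A A
  have hfT : Module.Finite ℤ_[l] (TateMod A l (SGA7.pt (K := k) (AlgebraicClosure k))) :=
    finite_tate (AlgebraicClosure k) hl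
  exact SqAlg.isSemisimpleRing_adjoin (K := ℚ_[l]) (jj A) injective_jj (rep (AlgebraicClosure k) l A)
    (injective_rep (AlgebraicClosure k) hl) (EndAV.End.of π)
    (K516.FrobSS.isSemisimple_frob A (Nat.card k) Nat.card_pos.ne' π hπ l _)

theorem finite_end0 : Module.Finite ℚ (EndAV.End0 A) := by
  have h1 : Module.Finite ℤ (EndAV.End A) := K522.Bridge.finite_hom A A
  infer_instance

theorem finrank_end0 : Module.finrank ℚ (EndAV.End0 A) = Module.finrank ℤ (EndAV.End A) := by
  have h1 : Module.Free ℤ (EndAV.End A) := K522.Bridge.free_hom A A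
  exact Module.finrank_baseChange

/-- The endomorphism ring of a simple abelian variety is a domain. -/
theorem eq_zero_or (hA : K517.Isog.IsSimple A) (a b : EndAV.End A) (hab : a * b = 0) : a = 0 ∨ b = 0 := by
  by_cases ha : a = 0
  · exact Or.inl ha
  · right
    have h1 : a.toHom ≠ 1 := fun h => ha (EndAV.End.ext h)
    obtain ⟨n, v, hn, hv, h2, -⟩ := K517.Simple.exists_rev_of_isSimple hA hA a.toHom h1
    have h3 : EndAV.End.of v * a = (n : EndAV.End A) :=
      EndAV.End.ext (h2.trans (EndAV.End.toHom_natCast n).symm)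
    have h4 : (n : EndAV.End A) * b = 0 := by
      rw [← h3, _root_.mul_assoc, hab, mul_zero]
    have h5 : n • b = 0 := by rw [nsmul_eq_mul, h4]
    have h6 : IsAddTorsionFree (EndAV.End A) := inferInstanceAs (IsAddTorsionFree (EndAV.Hom A A))
    exact (nsmul_eq_zero_iff_right (by omega : n ≠ 0)).mp h5

/-- Simple abelian varieties. -/
theorem exists_sq [Finite k] [Algebra.IsAlgebraic k Ω] (hl : (l : k) ≠ 0) (g : ℕ)
    (hg : topologicalKrullDim A.left = g) (hA : K517.Isog.IsSimple A) (π : A ⟶ A) [IsMonHom π]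
    (hπ : IsFrob (Nat.card k) π.left) (hT : TateThm Ω l A A) :
    ∃ n : ℕ, Module.finrank (EndAV.QAdj (EndAV.End.of π)) (EndAV.End0 A) = n ^ 2 ∧
      n * Module.finrank ℚ (EndAV.QAdj (EndAV.End.of π)) = 2 * g := by
  classical
  have hf : Module.Finite ℤ_[l] (TateMod A l (SGA7.pt (K := k) Ω)) := finite_tate Ω hl
  have ht := isTorsionFree_tateMod (l := l) A (SGA7.pt (K := k) Ω)
  have hfr : Module.Free ℤ_[l] (TateMod A l (SGA7.pt (K := k) Ω)) := Module.free_of_finite_type_torsion_free'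
  have h1 : Module.Finite ℤ (EndAV.End A) := K522.Bridge.finite_hom A A
  have h1' : Module.Free ℤ (EndAV.End A) := K522.Bridge.free_hom A A
  have h2 : Module.Finite ℚ (EndAV.End0 A) := finite_end0
  have hac : IsAlgClosure k Ω := ⟨inferInstance, inferInstance⟩
  have hss := K516.FrobSS.isSemisimple_frob A (Nat.card k) Nat.card_pos.ne' π hπ l (SGA7.pt (K := k) Ω)
  obtain ⟨P, hPm, hPd, hP, -⟩ := K522.DegDet.exists_charpoly Ω hl g hg π
  have hr := K522.RankThm.finrank_hom_int hl π hπ π hπ hT (fun n e he => K522.Bridge.linearIndependent Ω hl e he)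
    ⟨h1', h1⟩ hss hss P hP P hP
  have hch : (rep Ω l A (EndAV.End.of π)).charpoly = P.map (Int.castRingHom ℚ_[l]) := by
    have h3 := K522.RankThm.charpoly_baseChange_eq (K := ℚ_[l]) _ P hP
    rw [Polynomial.map_map] at h3
    refine h3.trans ?_
    congr 1
  have hr' : Module.finrank ℤ (EndAV.End A) = _ := hr
  obtain ⟨n, hn1, hn2⟩ := SqAlg.exists_sq (K := ℚ_[l]) (jj A) injective_jj exists_nsmul_jj (rep Ω l A)
    (eq_zero_or hA) (EndAV.End.of π) P hch (by rw [finrank_end0, hr'])
  refine ⟨n, hn1, hn2.trans ?_⟩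
  rw [Module.finrank_baseChange]
  exact K523.RankTate.finrank_tate Ω A l hl g hg

end K425.TateApp
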